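import Cfsg.Agent.H666.Clif.Desc
import Cfsg.Agent.H658.CyclicUse
import Cfsg.Agent.H648.HarrisKnorr
import Cfsg.Agent.H617.SmallRank
import Cfsg.Agent.H112.GLB.Main
import Cfsg.Agent.H76.GLB.DE2
import Cfsg.Agent.H38.S4536.N3
import Cfsg.Agent.H76.GLB.ProdBlk
import Cfsg.Agent.H751.FixDim
import Cfsg.Agent.H583.SecRank
set_option linter.all false

-- part: H111/GLB/E1a
section
/-!
# A block whose defect group meets a normal subgroup with cyclic quotient in a cyclic group, `p = 2`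

* `blockRank_le_one_of_cyclic`: a `2`-block with a cyclic defect group has at most one irreducible Brauer character;
* `exists_twist_of_cyclic`: if `D ∩ S` is cyclic, then any two irreducible Brauer characters of the block differ by a
  linear character of `G / S` of odd order.
-/

set_option autoImplicit false
set_option linter.unusedSectionVars false

open Cfsg IsLocalRing Module
open scoped ComplexConjugate
open Cfsg.Agent.H657 Cfsg.Agent.H577.GLB
open Cfsg.Agent.H608.BlockRank Cfsg.Agent.Blocks.Basic Cfsg.Agent.Blocks.Local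

namespace Cfsg.Agent.H111.GLB

open Cfsg.Agent.H666.Clif
open Cfsg.Agent.Blocks.Covering (conjIrr conjIrr_apply sameBlock_conjIrr conjIrr_conjIrr conjIrr_one)

universe u

section

variable {M : Ideal AlgInt} {G : Type u} [Group G] [Finite G]

/-- A `2`-block with a cyclic defect group has at most one irreducible Brauer character. -/
theorem blockRank_le_one_of_cyclic (hM : IsPModular 2 M) {B : Set (IrrCharacter G)} (hB : IsPBlock M B)
    {D : Subgroup G} (hD : IsDefectGroup 2 M B D) (hc : IsCyclic D) : blockRank 2 B ≤ 1 := by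
  have hp : Fact (Nat.Prime 2) := ⟨Nat.prime_two⟩
  have hcard := Cfsg.Agent.S0908.result 2 M hM B hB D hD
  by_cases ha : 1 ≤ blockDefect 2 B
  · have hab : IsMulCommutative D :=
      ⟨⟨fun x y => (IsCyclic.commGroup (α := D)).mul_comm x y⟩⟩
    obtain ⟨b, hb⟩ := H658.exists_root_centralizer hM hab hD hB
    obtain ⟨T, hT⟩ := H658.exists_stabilizer hM D hb.1
    have h1 := S4695.result 2 M hM D hc _ ha hcard B hB hD b hb T hT _ rfl
    obtain ⟨h2, -⟩ := S4696.result 2 M hM D hc _ ha hcard B hB hD b hb T hT _ rfl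
    rw [h1]
    exact Nat.le_of_dvd Nat.one_pos h2
  · exact H617.SmallRank.blockRank_le_one hM hB (by omega)

end

section

variable {V : ValuationSubring ℂ} {M : Ideal AlgInt} {G : Type u} [Group G] [Finite G] {p : ℕ}

/-- The odd part of a linear character. -/
theorem exists_coprime_part (hp : p.Prime) (S : Subgroup G) (l : G →* ℂˣ) (hl : ∀ x ∈ S, l x = 1) :
    ∃ l' : G →* ℂˣ, (∀ x ∈ S, l' x = 1) ∧ (orderOf l').Coprime p ∧ ∀ g, IsPRegular p g → l' g = l g := by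
  have hpos : orderOf l ≠ 0 := by
    rw [Ne, orderOf_eq_zero_iff, not_not, isOfFinOrder_iff_pow_eq_one]
    refine ⟨Nat.card G, Nat.card_pos, ?_⟩
    ext g
    rw [MonoidHom.pow_apply, pow_lin]
    rfl
  obtain ⟨a, m, hm, ham⟩ := Nat.exists_eq_pow_mul_and_not_dvd hpos p hp.ne_one
  have hmc : m.Coprime p := ((Nat.Prime.coprime_iff_not_dvd hp).2 hm).symm
  -- `k ≡ 1 mod m`, `k ≡ 0 mod p ^ a`
  obtain ⟨k, hk1, hk2⟩ := Nat.chineseRemainder (Nat.Coprime.pow_right a hmc) 1 0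
  refine ⟨l ^ k, fun x hx => by rw [MonoidHom.pow_apply, hl x hx, one_pow], ?_, fun g hg => ?_⟩
  · refine Nat.Coprime.coprime_dvd_left (orderOf_dvd_of_pow_eq_one (n := m) ?_) hmc
    have h1 : p ^ a ∣ k := (Nat.modEq_zero_iff_dvd).1 hk2
    obtain ⟨t, ht⟩ := h1
    have h2 : k * m = orderOf l * t := by rw [ham, ht]; ring
    ext g
    rw [MonoidHom.pow_apply, MonoidHom.pow_apply, ← pow_mul, h2, pow_mul, ← MonoidHom.pow_apply,
      pow_orderOf_eq_one, MonoidHom.one_apply, one_pow]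
  · rw [MonoidHom.pow_apply]
    -- the order of `l g` is prime to `p` and divides `orderOf l`
    have h1 : orderOf (l g) ∣ orderOf g := orderOf_map_dvd l g
    have h2 : orderOf (l g) ∣ p ^ a * m := by
      rw [← ham]
      refine orderOf_dvd_of_pow_eq_one ?_
      rw [← MonoidHom.pow_apply, pow_orderOf_eq_one]
      rfl
    have h3 : (orderOf (l g)).Coprime (p ^ a) :=
      (Nat.Coprime.pow_left a ((Nat.Prime.coprime_iff_not_dvd hp).2 fun h => hg (h.trans h1))).symm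
    have h4 : orderOf (l g) ∣ m := h3.dvd_of_dvd_mul_left h2
    have h5 : k ≡ 1 [MOD orderOf (l g)] := hk1.of_dvd h4
    have h6 := pow_eq_pow_iff_modEq.2 h5
    rwa [pow_one] at h6

/-- Every member of `IBr(B)` has a constituent on `S` in a given covered block. -/
theorem exists_mem_ibrUnder (hM : IsPModular p M) (hV : Above M V) (S : Subgroup G) [S.Normal] [Fintype S]
    (hcyc : IsCyclic (G ⧸ S)) {B : Set (IrrCharacter G)} (hB : IsPBlock M B) {c : Set (IrrCharacter S)}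
    (hc : IsPBlock M c) (hcov : H648.Dict.Covers S B c) {i : IBr V G} (hi : i ∈ ibrUnder V B)
    {O : Finset (IBr V S)} (hO : IsRes p S i O) : ∃ j ∈ O, j ∈ ibrUnder V c := by
  classical
  have : Fact p.Prime := ⟨hM.1⟩
  have hMp := isPrime_of_isPModular hM
  have := Fintype.ofFinite G
  obtain ⟨O', hne, hO', h1, h2⟩ := H112.Clif.clifford_cyclic (V := V) hM hV S hcyc i
  rw [isRes_unique hM hV S hO' hO] at hne h1 h2
  obtain ⟨j, hj⟩ := hne
  have hj1 := mem_ibrUnder_of hM hV S (H666.Clif.isUnion_of_isPBlock hMp hB) (isUnion_clos hMp (below S B))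
    (subset_clos hMp _) hi hO hj
  obtain ⟨ε, ⟨ε', ⟨χ, hχ, hov⟩, hs⟩, hu⟩ := hj1
  have hc' : IsPBlock M (blockOf M (ε' : S → ℂ)) := ⟨ε', rfl⟩
  have hcov' : H648.Dict.Covers S B (blockOf M (ε' : S → ℂ)) :=
    ⟨χ, hχ, ε', Blocks.Induced.sameBlock_refl hMp _, (ov_iff S χ ε').1 hov⟩
  obtain ⟨g, hg⟩ := H648.HarrisKnorr.exists_conjN_of_covers S hM hB hc hc' hcov hcov'
  have hj2 : j ∈ ibrUnder V (blockOf M (ε' : S → ℂ)) := ⟨ε, hs, hu⟩
  obtain ⟨j', hj', hjj⟩ := h1 j hj g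
  refine ⟨j', hj', ?_⟩
  have h3 := ibrUnder_conj hM hV S g hc' hjj hj2
  rw [hg, conjN_eq, Set.image_image] at h3
  have h4 : (fun θ : IrrCharacter S => conjIrr S g (conjIrr S g⁻¹ θ)) = id := by
    funext θ
    exact conjIrr_inv' S g θ
  rwa [h4, Set.image_id] at h3

end

section

variable {V : ValuationSubring ℂ} {M : Ideal AlgInt} {G : Type u} [Group G] [Finite G]

/-- If the defect group of the `2`-block `B` meets `S` in a cyclic group, then any two irreducible Brauer characters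
of `B` differ by a linear character of `G / S` of odd order. -/
theorem exists_twist_of_cyclic (hM : IsPModular 2 M) (hV : Above M V) (S : Subgroup G) [S.Normal]
    (hcyc : IsCyclic (G ⧸ S)) {B : Set (IrrCharacter G)} (hB : IsPBlock M B) {D : Subgroup G}
    (hD : IsDefectGroup 2 M B D) (hDS : IsCyclic (D ⊓ S : Subgroup G)) {i i' : IBr V G}
    (hi : i ∈ ibrUnder V B) (hi' : i' ∈ ibrUnder V B) :
    ∃ l : G →* ℂˣ, (∀ x ∈ S, l x = 1) ∧ (orderOf l).Coprime 2 ∧ ∀ g, phi 2 i' g = (l g : ℂ) * phi 2 i g := by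
  classical
  have hp : Fact (Nat.Prime 2) := ⟨Nat.prime_two⟩
  have : CharP (ResidueField V) 2 := hV.charP hM
  have hMp := isPrime_of_isPModular hM
  have := Fintype.ofFinite G
  obtain ⟨c, hc, -, hcov, hcD⟩ := H648.Dict.exists_stable_covered (N := S) hM hB hD
  have hcc : IsCyclic ((D ⊓ S).subgroupOf S) :=
    isCyclic_of_surjective (Subgroup.subgroupOfEquivOfLe (inf_le_right : D ⊓ S ≤ S)).symm
      (Subgroup.subgroupOfEquivOfLe (inf_le_right : D ⊓ S ≤ S)).symm.surjective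
  have h1 := blockRank_le_one_of_cyclic hM hc hcD hcc
  rw [blockRank_eq_card hM hV (H666.Clif.isUnion_of_isPBlock hMp hc)] at h1
  have h2 : Subsingleton (ibrUnder V c) := by
    rw [← Finite.card_le_one_iff_subsingleton]
    exact h1
  obtain ⟨O, -, hO, -, -⟩ := H112.Clif.clifford_cyclic (V := V) hM hV S hcyc i
  obtain ⟨O', -, hO', -, -⟩ := H112.Clif.clifford_cyclic (V := V) hM hV S hcyc i'
  obtain ⟨j, hjO, hj⟩ := exists_mem_ibrUnder hM hV S hcyc hB hc hcov hi hO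
  obtain ⟨j', hjO', hj'⟩ := exists_mem_ibrUnder hM hV S hcyc hB hc hcov hi' hO'
  have hjj : j = j' := congrArg Subtype.val (Subsingleton.elim (⟨j, hj⟩ : ibrUnder V c) ⟨j', hj'⟩)
  subst hjj
  obtain ⟨l, hl, hl'⟩ := H112.Clif.over_unique hM hV S hcyc j i i' O O' hO hO' hjO hjO'
  obtain ⟨l', h3, h4, h5⟩ := exists_coprime_part Nat.prime_two S l hl
  refine ⟨l', h3, h4, fun g => ?_⟩
  by_cases hg : IsPRegular 2 g
  · rw [hl', h5 g hg]
  · rw [phi_of_not i' hg, phi_of_not i hg, mul_zero]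

end

end Cfsg.Agent.H111.GLB
end

-- part: H111/GLB/E1
section
/-!
# HUB S4536 / S4537, the exceptional case `p = 2`, weight 2 (E1)

* `rz_not_isCyclic_two`: abstract realization (`Rz`) of the standard model: if the family of `t₀` (one orbit, weight 2)
  is a block with defect group `D`, then `D ∩ S` is not cyclic, `S` the common kernel of the linear characters;
* `not_isCyclic_two_of`: the case of `GL_n(F)`; hypotheses: the bijection of the labels, GB5 (a family is one block), the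
  labels of the linear characters.
-/

set_option autoImplicit false
set_option linter.unusedSectionVars false

open Cfsg
open scoped ComplexConjugate

namespace Cfsg.Agent.H111.GLB

open Cfsg.Agent.H577.GLB.Std Cfsg.Agent.H614 Cfsg.Agent.H112.GLB
open Cfsg.Agent.H657 Cfsg.Agent.H608.BlockRank Cfsg.Agent.Blocks.Basic Cfsg.Agent.Blocks.Local
open Cfsg.Agent.H666.Clif (tl tl_apply isPBlock_tl eq_of_ibrUnder ibrUnder_tl)

universe u

section abs

variable {Q : ℤ} {M : ℕ} [NeZero M] {n : ℕ} {G : Type u} [Group G] [Finite G] (R : Rz Q M 2 n G)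
  {𝔐 : Ideal AlgInt} {V : ValuationSubring ℂ}

theorem card_partition_two : Fintype.card (Nat.Partition 2) = 2 := H38.S4536.card_partition_small.2.1

/-- Brauer characters in a family all of whose labels are fixed by `a` are fixed by the linear character with
label `a`. -/
theorem twist_phi_eq (h𝔐 : IsPModular 2 𝔐) (hV : Above 𝔐 V) {m : ℕ} (hm : n ≤ m) (hlab : R.Bij m)
    (t₀ : LabZ Q M m n) (a : ZMod M) (ha : TorZ Q M 1 a)
    (hfix : ∀ t : LabZ Q M m n, POnly M 2 t.t → SameFam Q M 2 t₀.t t.t → ∀ c, t.t (c + a) = t.t c)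
    (l : G →* ℂˣ) (hl : ∀ x ∈ Hom Q M n, R.om (twist Q M a x) = (fun g => (l g : ℂ)) * R.om x)
    {i : IBr V G}
    (hi : i ∈ ibrUnder V {χ : IrrCharacter G | ∃ t : LabZ Q M m n, R.IsLb χ t ∧ SameFam Q M 2 t₀.t t.t}) (g : G) :
    (l g : ℂ) * phi 2 i g = phi 2 i g := by
  have h := R.phi_mem_span' h𝔐 hV hm hlab t₀ hi
  let T : (G → ℂ) →ₗ[ℂ] (G → ℂ) := LinearMap.mulLeft ℂ (fun g => (l g : ℂ))
  have key : ∀ f ∈ Submodule.span ℂ ((fun t' : {t : LabZ Q M m n // POnly M 2 t.t} =>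
      R.om (tauP Q M 2 (SchP Q M t'.1.t))) '' {t' | SameFam Q M 2 t₀.t t'.1.t}), T f = f := by
    intro f hf
    induction hf using Submodule.span_induction with
    | mem f hf =>
      obtain ⟨t, ht, rfl⟩ := hf
      have h3 := hl _ (schP_mem_hom R.unit t.1)
      rw [H157.GLB.twist_SchP R.unit a ha t.1.t t.1.orb] at h3
      have h4 : (fun c => t.1.t (c - a)) = t.1.t := by
        funext c
        have h5 := hfix t.1 t.2 ht (c - a)
        rw [sub_add_cancel] at h5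
        exact h5.symm
      rw [h4] at h3
      have h1 : R.om (tauP Q M 2 (SchP Q M t.1.t)) = pReg 2 (R.om (SchP Q M t.1.t)) := R.om_tauP t.1
      show T (R.om (tauP Q M 2 (SchP Q M t.1.t))) = R.om (tauP Q M 2 (SchP Q M t.1.t))
      rw [h1]
      funext g
      show (l g : ℂ) * _ = _
      by_cases hg : IsPRegular 2 g
      · rw [pReg_of hg]
        exact (congrFun h3 g).symm
      · rw [pReg_of_not hg, mul_zero]
    | zero => rw [map_zero]
    | add f f' _ _ h h' => rw [map_add, h, h']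
    | smul c f _ h => rw [map_smul, h]
  exact congrFun (key _ h) g

/-- **E1** for an abstract realization. -/
theorem rz_not_isCyclic_two (h𝔐 : IsPModular 2 𝔐) {m : ℕ} (hm : n ≤ m) (hlab : R.Bij m)
    (hQ : (Q : ZMod 2) = 1) (t₀ : LabZ Q M m n) (h₀ : POnly M 2 t₀.t) (δ₀ : ZMod M)
    (h₁ : ∀ δ, 0 < bsz (t₀.t δ) → SameZ Q M δ₀ δ) (hw : bsz (t₀.t δ₀) = 2)
    {B : Set (IrrCharacter G)} (hB : IsPBlock 𝔐 B) {χ : IrrCharacter G} (hχ : χ ∈ B) (ht₀ : R.IsLb χ t₀)
    (hone : ∀ (ψ : IrrCharacter G) (t : LabZ Q M m n), R.IsLb ψ t → SameFam Q M 2 t₀.t t.t → ψ ∈ B)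
    (S : Subgroup G) [S.Normal] (hcyc : IsCyclic (G ⧸ S))
    (hlin : ∀ l : G →* ℂˣ, (∀ x ∈ S, l x = 1) → (orderOf l).Coprime 2 → ∃ a : ZMod M, TorZ Q M 1 a ∧
      PReg M 2 a ∧ ∀ x ∈ Hom Q M n, R.om (twist Q M a x) = (fun g => (l g : ℂ)) * R.om x)
    {D : Subgroup G} (hD : IsDefectGroup 2 𝔐 B D) : ¬ IsCyclic (D ⊓ S : Subgroup G) := by
  classical
  intro hDS
  have hMp := isPrime_of_isPModular h𝔐
  have : Fact (Nat.Prime 2) := ⟨Nat.prime_two⟩
  obtain ⟨V, hV⟩ := exists_above h𝔐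
  have : CharP (IsLocalRing.ResidueField V) 2 := hV.charP h𝔐
  obtain ⟨hc1, -, hc3⟩ := H76.GLB.card_family_one Nat.prime_two R.unit hQ hm t₀ h₀ δ₀ h₁
  rw [hw, card_partition_two] at hc1
  -- the members of `B`
  have hBfam : ∀ ψ ∈ B, ∃ t : LabZ Q M m n, R.IsLb ψ t ∧ SameFam Q M 2 t₀.t t.t := by
    intro ψ hψ
    obtain ⟨t, ht, -⟩ := hlab.1 ψ
    exact ⟨t, ht, R.sameFam_of_mem h𝔐 hm hlab hB hχ hψ ht₀ ht⟩
  -- any two irreducible Brauer characters are equal
  have key : ∀ i ∈ ibrUnder V B, ∀ i' ∈ ibrUnder V B, i = i' := by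
    intro i hi i' hi'
    obtain ⟨l, hl1, hl2, hl3⟩ := exists_twist_of_cyclic h𝔐 hV S hcyc hB hD hDS hi hi'
    obtain ⟨a, ha, ha', hla⟩ := hlin l hl1 hl2
    have e1 := ibrUnder_tl h𝔐 hV hB hl3 hi
    have e2 : B = tl l '' B := eq_of_ibrUnder h𝔐 hV hB (isPBlock_tl hMp l hB) hi' e1
    have e3 : tl l χ ∈ B := by
      rw [e2]
      exact ⟨χ, hχ, rfl⟩
    have hst : Stab Q M 2 t₀ a := R.stab_of_block
      (fun χ hχ χ' hχ' t t' ht ht' => R.sameFam_of_mem h𝔐 hm hlab hB hχ hχ' ht ht') hχ e3 ht₀ a ha ha' hla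
      (by funext g; rfl)
    obtain ⟨-, h5⟩ := hc3 a hst
    have hfin0 : Finite {t : LabZ Q M m n // POnly M 2 t.t ∧ SameFam Q M 2 t₀.t t.t ∧ ∀ c, t.t (c + 0) = t.t c} := by
      apply Nat.finite_of_card_ne_zero
      change nfix Q M 2 t₀ 0 ≠ 0
      rw [hc1]
      norm_num
    have hfix : ∀ t : LabZ Q M m n, POnly M 2 t.t → SameFam Q M 2 t₀.t t.t → ∀ c, t.t (c + a) = t.t c := by
      intro t ht hf
      let ι : {t : LabZ Q M m n // POnly M 2 t.t ∧ SameFam Q M 2 t₀.t t.t ∧ ∀ c, t.t (c + a) = t.t c} →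
          {t : LabZ Q M m n // POnly M 2 t.t ∧ SameFam Q M 2 t₀.t t.t ∧ ∀ c, t.t (c + 0) = t.t c} :=
        fun t => ⟨t.1, t.2.1, t.2.2.1, fun c => by rw [add_zero]⟩
      have hι : Function.Injective ι := fun x y hxy => Subtype.ext (congrArg (fun z => z.1) hxy)
      have hι2 : Function.Surjective ι := by
        have hb := Function.Injective.bijective_of_nat_card_le hι (le_of_eq h5.symm)
        exact hb.2
      obtain ⟨t', ht'⟩ := hι2 ⟨t, ht, hf, fun c => by rw [add_zero]⟩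
      have h6 : t'.1 = t := congrArg (fun z => z.1) ht'
      rw [← h6]
      exact t'.2.2.2
    have hi2 : i ∈ ibrUnder V {χ : IrrCharacter G | ∃ t : LabZ Q M m n, R.IsLb χ t ∧ SameFam Q M 2 t₀.t t.t} := by
      obtain ⟨ψ, hψ, hu⟩ := hi
      exact ⟨ψ, hBfam ψ hψ, hu⟩
    have h7 : ∀ g, phi 2 i' g = phi 2 i g := fun g => by
      rw [hl3 g, twist_phi_eq R h𝔐 hV hm hlab t₀ a ha hfix l hla hi2 g]
    exact (H112.Clif.phi_injective h𝔐 hV (funext h7)).symm
  -- two linearly independent members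
  let κ := {t : LabZ Q M m n // POnly M 2 t.t ∧ SameFam Q M 2 t₀.t t.t ∧ ∀ c, t.t (c + 0) = t.t c}
  have hcκ : Nat.card κ = 2 := hc1
  have : Finite κ := Nat.finite_of_card_ne_zero (by rw [hcκ]; norm_num)
  have := Fintype.ofFinite κ
  let b : κ → (G → ℂ) := fun t => R.om (tauP Q M 2 (SchP Q M t.1.t))
  have hb : LinearIndependent ℂ b := by
    have h1 := (tauInd (Q := Q) (m := m) (n := n) Nat.prime_two R.unit)
    have h2 : LinearIndependent ℂ (fun t : κ => tauP Q M 2 (SchP Q M t.1.t)) :=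
      h1.comp (fun t : κ => (⟨t.1, t.2.1⟩ : {t : LabZ Q M m n // POnly M 2 t.t}))
        fun x y hxy => Subtype.ext (congrArg (fun z => z.1) hxy)
    refine LinearIndependent.map_injOn h2 R.om (R.om_injOn.mono ?_)
    refine SetLike.coe_subset_coe.2 (Submodule.span_le.2 ?_)
    rintro _ ⟨t, rfl⟩
    exact tauP_mem_hom 2 (schP_mem_hom R.unit t.1)
  have hbB : ∀ t, b t ∈ Submodule.span ℂ (phi 2 '' ibrUnder V B) := by
    intro t
    obtain ⟨ψ, ⟨s, hs⟩, -⟩ := hlab.2 t.1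
    have hψ : ψ ∈ B := hone ψ t.1 ⟨s, hs⟩ t.2.2.1
    have h1 : b t = (((s : ℤ) : ℂ)) • pReg 2 (ψ : G → ℂ) := by
      show R.om _ = _
      rw [R.om_tauP, hs, map_smul]
    rw [h1, ← map_pReg_charSpan h𝔐 hV (H666.Clif.isUnion_of_isPBlock hMp hB)]
    exact Submodule.smul_mem _ _ ⟨_, Submodule.subset_span ⟨ψ, hψ, rfl⟩, rfl⟩
  have hsub : Nat.card (ibrUnder V B) ≤ 1 := by
    have : Subsingleton (ibrUnder V B) := ⟨fun x y => Subtype.ext (key _ x.2 _ y.2)⟩
    exact Finite.card_le_one_iff_subsingleton.2 this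
  rw [← finrank_span_phi (p := 2) (ibrUnder V B)] at hsub
  let b' : κ → Submodule.span ℂ (phi 2 '' ibrUnder V B) := fun t => ⟨b t, hbB t⟩
  have hb' : LinearIndependent ℂ b' := LinearIndependent.of_comp (Submodule.subtype _) hb
  have h8 := hb'.fintype_card_le_finrank
  rw [← Nat.card_eq_fintype_card, hcκ] at h8
  omega

end abs

/-! ### `GL_n(F)` -/

section glsec

open Cfsg.Agent.H577.GLB.Real Cfsg.Agent.H614.GLn Cfsg.Agent.H624.Sl

variable {F K : Type u} [Field F] [Field K] [Algebra F K] {θ : K →*₀ ℂ} {N M : ℕ} [NeZero M]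
  {𝔐 : Ideal AlgInt}

/-- the size of a finite field of odd characteristic is odd -/
theorem card_cast_two (F : Type u) [Field F] [Finite F] (hpF : 2 ≠ ringChar F) :
    (((Nat.card F : ℕ) : ℤ) : ZMod 2) = 1 := by
  have := Fintype.ofFinite F
  have h := FiniteField.odd_card_of_char_ne_two (F := F) (Ne.symm hpF)
  rw [Int.cast_natCast, Nat.card_eq_fintype_card]
  have h2 : ((Fintype.card F : ℕ) : ZMod 2) = ((1 : ℕ) : ZMod 2) := by
    rw [ZMod.natCast_eq_natCast_iff]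
    exact h
  rw [h2, Nat.cast_one]

theorem isCyclic_slS [Finite F] (n : ℕ) : IsCyclic (GL (Fin n) F ⧸ slS F n) := by
  have e : GL (Fin n) F ⧸ slS F n ≃* (Matrix.GeneralLinearGroup.det : GL (Fin n) F →* Fˣ).range :=
    QuotientGroup.quotientKerEquivRange _
  exact isCyclic_of_surjective e.symm e.symm.surjective

theorem dch_eq_linHom (n : ℕ) (a : ZMod M) : dch n (linH F θ M a) = linHom F θ M n a := rfl

/-- **E1** (`not_isCyclic_two`), the labels of the irreducible characters, GB5 and the labels of the linear characters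
as hypotheses. -/
theorem not_isCyclic_two_of [Finite F] (hctx : Ctx F θ N M) (hpF : 2 ≠ ringChar F) (h𝔐 : IsPModular 2 𝔐)
    {m n : ℕ} (hn : n ≤ N) (hm : n ≤ m) (hlab : LabBij F θ M m n) (t₀ : LabZ (Nat.card F) M m n)
    (h₀ : POnly M 2 t₀.t) (δ₀ : ZMod M) (h₁ : OnlyOn (Nat.card F) M δ₀ t₀.t) (hw : H577.GLB.Std.bsz (t₀.t δ₀) = 2)
    (χ : IrrCharacter (GL (Fin n) F)) (hχ : IsLab θ M m n χ t₀)
    (hone : ∀ (ψ : IrrCharacter (GL (Fin n) F)) (t : LabZ (Nat.card F) M m n), IsLab θ M m n ψ t →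
      SameFam (Nat.card F) M 2 t₀.t t.t → ψ ∈ blockOf 𝔐 (χ : GL (Fin n) F → ℂ))
    (hlin : ∀ l : GL (Fin n) F →* ℂˣ, (∀ x ∈ slS F n, l x = 1) → ∃ a : ZMod M, TorZ (Nat.card F) M 1 a ∧
      l = dch n (linH F θ M a))
    (hord : ∀ a : ZMod M, TorZ (Nat.card F) M 1 a → orderOf (dch n (linH F θ M a)) = addOrderOf a)
    (D : Subgroup (GL (Fin n) F)) (hD : IsDefectGroup 2 𝔐 (blockOf 𝔐 (χ : GL (Fin n) F → ℂ)) D) :
    ¬ IsCyclic (D ⊓ slS F n : Subgroup (GL (Fin n) F)) := by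
  have hMp := isPrime_of_isPModular h𝔐
  refine rz_not_isCyclic_two (GLrz hctx h𝔐.1 hpF hn) h𝔐 hm hlab (card_cast_two F hpF) t₀ h₀ δ₀ h₁ hw ⟨χ, rfl⟩
    (Blocks.Induced.sameBlock_refl hMp _) hχ hone (slS F n) (isCyclic_slS n) ?_ hD
  intro l hl ho
  obtain ⟨a, ha, rfl⟩ := hlin l hl
  exact ⟨a, ha, by rwa [hord a ha] at ho, om_twist hctx hn a ha⟩

end glsec

end Cfsg.Agent.H111.GLB
end

-- part: H501/GLn/FourA
section
/-!
# S4536 E2, group-theoretic part

* `exists_defect_prod'` : the defect groups of a product of two blocks contain the product of the defect groups;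
* `four_le_of_noncyclic` : the direct product of two noncyclic 2-groups has sectional rank at least 4.
-/

set_option autoImplicit false
set_option linter.unusedSectionVars false

open Cfsg

namespace Cfsg.Agent.H501.GLn

open Cfsg.Agent.H644 Cfsg.Agent.Blocks.Local Cfsg.Agent.H648.Dict Cfsg.Agent.H624.Sl Cfsg.Agent.H466.Sl
open Cfsg.Agent.Characters.Core Cfsg.Agent.H76.GLB

section prod

variable {X₁ X₂ G : Type*} [Group X₁] [Finite X₁] [Group X₂] [Finite X₂] [Group G] [Finite G]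
  {H : Subgroup G} {p : ℕ} [Fact p.Prime] {𝔐 : Ideal AlgInt} {j : X₁ × X₂ →* G}

theorem exists_defect_prod' (hM : IsPModular p 𝔐) (hj : Function.Injective j) (hr : j.range = H)
    {b₁ : Set (IrrCharacter X₁)} {b₂ : Set (IrrCharacter X₂)} (D₁ : Subgroup X₁)
    (hD₁ : IsDefectGroup p 𝔐 b₁ D₁) (D₂ : Subgroup X₂) (hD₂ : IsDefectGroup p 𝔐 b₂ D₂) :
    ∃ D : Subgroup H, IsDefectGroup p 𝔐 (prodBlk H j b₁ b₂) D ∧
      ∀ z ∈ D₁, ∀ d ∈ D₂, j (z, d) ∈ D.map H.subtype := by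
  have hP : 𝔐.IsPrime := isPrime_of_isPModular hM
  obtain ⟨g₁, hg₁, P₁, hP₁⟩ := hD₁
  obtain ⟨g₂, hg₂, P₂, hP₂⟩ := hD₂
  set φ := onto j hj H hr with hφ
  have hdef : IsDefectClass 𝔐 (prodBlk H j b₁ b₂) (φ (g₁, g₂)) := by
    refine ⟨?_, ?_, ?_⟩
    · rw [blockCoeff_prodBlk j hj H hr]
      exact memLocalRing_mul hg₁.1 hg₂.1
    · rw [blockCoeff_prodBlk j hj H hr]
      exact not_memLocalIdeal_mul hg₁.1 hg₂.1 hg₁.2.1 hg₂.2.1
    · rw [prodBlk_eq j hj H hr]
      rintro χ ⟨⟨χ₁, χ₂⟩, ⟨h₁, h₂⟩, rfl⟩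
      rw [centralChar_outer]
      exact not_memLocalIdeal_mul (memLocalRing_centralChar χ₁ _) (memLocalRing_centralChar χ₂ _)
        (hg₁.2.2 χ₁ h₁) (hg₂.2.2 χ₂ h₂)
  set C := Subgroup.centralizer ({φ (g₁, g₂)} : Set H) with hC
  set R : Subgroup H := (D₁.prod D₂).map φ.toMonoidHom with hR
  have hD₁p : IsPGroup p D₁ := by
    rw [hP₁]
    exact P₁.isPGroup'.map _
  have hD₁c : D₁ ≤ Subgroup.centralizer ({g₁} : Set X₁) := by
    rw [hP₁]
    exact Subgroup.map_subtype_le _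
  have hD₂p : IsPGroup p D₂ := by
    rw [hP₂]
    exact P₂.isPGroup'.map _
  have hD₂c : D₂ ≤ Subgroup.centralizer ({g₂} : Set X₂) := by
    rw [hP₂]
    exact Subgroup.map_subtype_le _
  have hRp : IsPGroup p R := by
    refine IsPGroup.map ?_ _
    rintro ⟨⟨z, d⟩, hz, hd⟩
    obtain ⟨a, ha⟩ := hD₁p ⟨z, hz⟩
    obtain ⟨b, hb⟩ := hD₂p ⟨d, hd⟩
    have ha' : z ^ p ^ a = 1 := congrArg Subtype.val ha
    have hb' : d ^ p ^ b = 1 := congrArg Subtype.val hb
    refine ⟨a + b, Subtype.ext (Prod.ext ?_ ?_)⟩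
    · change z ^ p ^ (a + b) = 1
      rw [pow_add, pow_mul, ha', one_pow]
    · change d ^ p ^ (a + b) = 1
      rw [pow_add, mul_comm, pow_mul, hb', one_pow]
  have hRC : R ≤ C := by
    rw [hC, ← map_centralizer]
    refine Subgroup.map_mono ?_
    rintro ⟨z, d⟩ ⟨hz, hd⟩
    rw [centralizer_prod]
    exact ⟨hD₁c hz, hD₂c hd⟩
  obtain ⟨P, hP'⟩ := IsPGroup.exists_le_sylow (p := p) (G := C) (P := R.subgroupOf C) hRp.comap_subtype
  refine ⟨(P : Subgroup C).map C.subtype, ⟨φ (g₁, g₂), hdef, P, rfl⟩, fun z hz d hd => ?_⟩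
  have h1 : φ (z, d) ∈ R := ⟨(z, d), ⟨hz, hd⟩, rfl⟩
  refine ⟨φ (z, d), ⟨⟨φ (z, d), hRC h1⟩, hP' ?_, rfl⟩, coe_onto j hj H hr (z, d)⟩
  rw [Subgroup.mem_subgroupOf]
  exact h1

end prod

section rank

/-- a normal subgroup of index 4 with elementary abelian quotient -/
theorem exists_four {P : Type*} [Group P] [Finite P] (hP : IsPGroup 2 P) (hc : ¬ IsCyclic P) :
    ∃ T : Subgroup P, T.Normal ∧ T.index = 4 ∧ (∀ a b : P, a * b * a⁻¹ * b⁻¹ ∈ T) ∧ ∀ a : P, a ^ 2 ∈ T := by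
  obtain ⟨M₁, M₂, h₁, h₂, hne⟩ := H751.exists_two_index_two hP hc
  have hn₁ : M₁.Normal := Subgroup.normal_of_index_eq_two h₁
  have hn₂ : M₂.Normal := Subgroup.normal_of_index_eq_two h₂
  have key : ∀ M : Subgroup P, M.index = 2 → (∀ a b : P, a * b * a⁻¹ * b⁻¹ ∈ M) ∧ ∀ a : P, a ^ 2 ∈ M := by
    intro M hM
    have hsq : ∀ a : P, a ^ 2 ∈ M := fun a => Subgroup.sq_mem_of_index_two hM a
    refine ⟨fun a b => ?_, hsq⟩
    have hmul : ∀ x y : P, x * y ∈ M ↔ (x ∈ M ↔ y ∈ M) := fun x y => Subgroup.mul_mem_iff_of_index_two hM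
    rw [hmul, hmul, hmul, inv_mem_iff, inv_mem_iff]
    tauto
  have hsup : M₁ ⊔ M₂ = ⊤ := by
    have h3 : M₁ < M₁ ⊔ M₂ := by
      refine lt_of_le_of_ne le_sup_left fun h => hne ?_
      have h4 : M₂ ≤ M₁ := by rw [h]; exact le_sup_right
      symm
      apply Subgroup.eq_of_le_of_card_ge h4
      have h5 := M₁.card_mul_index
      have h6 := M₂.card_mul_index
      rw [h₁] at h5
      rw [h₂] at h6
      omega
    have h4 : (M₁ ⊔ M₂).index < 2 := by
      rw [← h₁]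
      exact Subgroup.index_strictAnti h3
    have h5 : (M₁ ⊔ M₂).index ≠ 0 := Subgroup.FiniteIndex.index_ne_zero
    exact Subgroup.index_eq_one.1 (by omega)
  refine ⟨M₁ ⊓ M₂, inferInstance, ?_, fun a b => ⟨(key M₁ h₁).1 a b, (key M₂ h₂).1 a b⟩,
    fun a => ⟨(key M₁ h₁).2 a, (key M₂ h₂).2 a⟩⟩
  have h6 : (M₁ ⊓ M₂).relIndex M₂ * M₂.index = (M₁ ⊓ M₂).index := Subgroup.relIndex_mul_index inf_le_right
  have h7 : (M₁ ⊓ M₂).relIndex M₂ = M₁.relIndex M₂ := Subgroup.inf_relIndex_right M₁ M₂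
  have h8 : M₁.relIndex M₂ = M₁.relIndex (M₁ ⊔ M₂) := by
    rw [Subgroup.relIndex_sup_left]
  rw [← h6, h7, h8, hsup, Subgroup.relIndex_top_right, h₁, h₂]

theorem four_le_of_noncyclic {P₁ P₂ X : Type*} [Group P₁] [Finite P₁] [Group P₂] [Finite P₂] [Group X]
    (h₁ : IsPGroup 2 P₁) (h₂ : IsPGroup 2 P₂) (hc₁ : ¬ IsCyclic P₁) (hc₂ : ¬ IsCyclic P₂)
    (f : P₁ × P₂ →* X) (hf : Function.Injective f) {s : ℕ} (hs : SectionalPRankLE 2 s X) : 4 ≤ s := by
  obtain ⟨T₁, hn₁, hi₁, hcm₁, hsq₁⟩ := exists_four h₁ hc₁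
  obtain ⟨T₂, hn₂, hi₂, hcm₂, hsq₂⟩ := exists_four h₂ hc₂
  have h3 := H583.SecRank.sectional_of_injective hs f hf
  have h4 := H583.SecRank.index_le h3 (T₁.prod T₂) (fun a b => ⟨hcm₁ a.1 b.1, hcm₂ a.2 b.2⟩)
    (fun a => ⟨hsq₁ a.1, hsq₂ a.2⟩)
  rw [Subgroup.index_prod, hi₁, hi₂] at h4
  by_contra h5
  have h6 : 2 ^ s ≤ 2 ^ 3 := Nat.pow_le_pow_right (by norm_num) (by omega)
  omega

end rank

end Cfsg.Agent.H501.GLn
end
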